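import Groth.Agent.Fga.PosMain
import Groth.Agent.Fga.EulerLEAdd
import Groth.Agent.Grpsch.PicGrp
import Groth.Agent.VarietyA.CurveFin
import Mathlib.AlgebraicGeometry.Geometrically.Integral
import Mathlib.AlgebraicGeometry.Group.Abelian

/-!
# Homogeneity of the Euler characteristic on abelian varieties

* `intNum_pow`: `(A^n, ..., A^n) = n^g (A, ..., A)` for the intersection symbol of `g` entries (dimension of the
  support of `F` at most `g`).
* `Stmt7858`: the Riemann-Roch formula `g! χ(L) = (L^g)` (row S7858), used as a hypothesis.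
* `euler_pow`: `χ(L^n) = n^g χ(L)`.
-/

set_option autoImplicit false
universe u
open CategoryTheory CategoryTheory.Limits MonoidalCategory CartesianMonoidalCategory MonObj GrpObj AlgebraicGeometry
  TopologicalSpace

namespace K817.Homog

open Groth.Agent.Fga.PicMon Groth.Agent.Fga.PosMain

section

variable (k : Type u) [Field k] (X : Scheme.{u}) [X.Over (Spec (CommRingCat.of k))]
  [IsProper (X ↘ Spec (CommRingCat.of k))] (d : ℕ) (hd : topologicalKrullDim X ≤ d)

omit [IsProper (X ↘ Spec (CommRingCat.of k))] in
theorem intNum_update {r : ℕ} (c : Fin (r + 1) → X.Modules) (i : Fin (r + 1)) (B : X.Modules) (F : X.Modules) :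
    FGA.intNum k X d (Function.update c i B) F =
      FGA.intNum k X d (Fin.cons B (fun j : Fin r => c (Equiv.swap 0 i j.succ)) : Fin (r + 1) → X.Modules) F := by
  rw [← intNum_perm k X d (Function.update c i B) (Equiv.swap 0 i) F]
  congr 1
  funext j
  induction j using Fin.cases with
  | zero => rw [Equiv.swap_apply_left, Function.update_self, Fin.cons_zero]
  | succ j =>
    rw [Fin.cons_succ, Function.update_of_ne]
    intro h
    have h2 : Equiv.swap 0 i j.succ = Equiv.swap 0 i 0 := by rw [h, Equiv.swap_apply_left]
    exact Fin.succ_ne_zero j ((Equiv.swap 0 i).injective h2)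

include hd in
theorem intNum_update_pow {r : ℕ} (c : Fin (r + 1) → X.Modules) (hc : ∀ i, PicF.IsInvertible (c i)) (i : Fin (r + 1))
    (A : X.Modules) (hA : PicF.IsInvertible A) (F : X.Modules) (hF : Coh.IsCoh F)
    (hr : topologicalKrullDim (CohB1.support F) < ((r + 2 : ℕ) : WithBot ℕ∞)) (n : ℕ) :
    FGA.intNum k X d (Function.update c i (CohB1.tensorPow A n)) F =
      n * FGA.intNum k X d (Function.update c i A) F := by
  rw [intNum_update, intNum_update]
  exact intNum_cons_tensorPow k X d hd A hA _ (fun j => hc _) F hF hr n

include hd in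
theorem intNum_pow (g : ℕ) (A : X.Modules) (hA : PicF.IsInvertible A) (F : X.Modules) (hF : Coh.IsCoh F)
    (hr : topologicalKrullDim (CohB1.support F) < ((g + 1 : ℕ) : WithBot ℕ∞)) (n : ℕ) :
    FGA.intNum k X d (fun _ : Fin g => CohB1.tensorPow A n) F =
      (n : ℤ) ^ g * FGA.intNum k X d (fun _ : Fin g => A) F := by
  classical
  cases g with
  | zero =>
    rw [pow_zero, _root_.one_mul]
    congr 1
    funext i
    exact i.elim0
  | succ r =>
    have key : ∀ S : Finset (Fin (r + 1)),
        FGA.intNum k X d (fun i => if i ∈ S then CohB1.tensorPow A n else A) F =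
          (n : ℤ) ^ S.card * FGA.intNum k X d (fun _ : Fin (r + 1) => A) F := by
      intro S
      induction S using Finset.induction_on with
      | empty => simp
      | insert a S ha ih =>
        have hc : ∀ i, PicF.IsInvertible ((fun i => if i ∈ S then CohB1.tensorPow A n else A) i) := by
          intro i
          dsimp only
          split_ifs
          · exact Groth.Agent.Fdesc.LocGen.isInvertible_tensorPow hA n
          · exact hA
        have h1 := intNum_update_pow k X d hd (fun i => if i ∈ S then CohB1.tensorPow A n else A) hc a A hA F hF hr n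
        have h2 : Function.update (fun i => if i ∈ S then CohB1.tensorPow A n else A) a (CohB1.tensorPow A n) =
            fun i => if i ∈ insert a S then CohB1.tensorPow A n else A := by
          funext i
          by_cases hi : i = a
          · subst hi; simp
          · rw [Function.update_of_ne hi]
            simp [Finset.mem_insert, hi]
        have h3 : Function.update (fun i => if i ∈ S then CohB1.tensorPow A n else A) a A =
            fun i => if i ∈ S then CohB1.tensorPow A n else A := by
          funext i
          by_cases hi : i = a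
          · subst hi; simp [ha]
          · rw [Function.update_of_ne hi]
        rw [h2, h3, ih] at h1
        rw [h1, Finset.card_insert_of_notMem ha, pow_succ]
        ring
    have h := key Finset.univ
    simpa using h

end

/-- Riemann-Roch on abelian varieties: the statement of row S7858. -/
def Stmt7858 : Prop := ∀ (k : Type u) [Field k] (X : Over (Spec (CommRingCat.of k)))
    [GrpObj X] [IsProper X.hom] [GeometricallyIntegral X.hom] (g : ℕ) (_ : topologicalKrullDim ↥X.left = g)
    (L M : X.left.Modules) (_ : PicF.IsInvertible L) (_ : Nonempty (CohB1.tensorMod L M ≅ Coh.structureModule X.left)),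
    ((Nat.factorial g : ℕ) : ℤ) * @Curv2.euler k _ X.left ⟨X.hom⟩ L =
      @FGA.intNum k _ X.left ⟨X.hom⟩ g g (fun _ : Fin g => M) (Coh.structureModule X.left)

/-- `χ(L^n) = n^g χ(L)` on an abelian variety of dimension `g`. -/
theorem euler_pow (h7858 : Stmt7858.{u}) (k : Type u) [Field k] (X : Over (Spec (CommRingCat.of k)))
    [GrpObj X] [IsProper X.hom] [GeometricallyIntegral X.hom] (g : ℕ) (hg : topologicalKrullDim ↥X.left = g)
    (L : X.left.Modules) (hL : PicF.IsInvertible L) (n : ℕ) :
    @Curv2.euler k _ X.left ⟨X.hom⟩ (CohB1.tensorPow L n) = (n : ℤ) ^ g * @Curv2.euler k _ X.left ⟨X.hom⟩ L := by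
  let _ : X.left.Over (Spec (CommRingCat.of k)) := ⟨X.hom⟩
  have hp : IsProper (X.left ↘ Spec (CommRingCat.of k)) := (inferInstance : IsProper X.hom)
  obtain ⟨M, hM, hLM⟩ := Groth.Agent.Grpsch.PicGrp.exists_inverse hL
  have h1 := h7858 k X g hg L M hL hLM
  have h2 := h7858 k X g hg (CohB1.tensorPow L n) (CohB1.tensorPow M n)
    (Groth.Agent.Fdesc.LocGen.isInvertible_tensorPow hL n) (by
      rw [← mc_eq_iff, mc_tensor, mc_one, mc_tensorPow, mc_tensorPow, ← mul_pow, ← mc_tensor,
        (mc_eq_iff _ _).2 hLM, mc_one, one_pow])
  have h3 := intNum_pow k X.left g hg.le g M hM (Coh.structureModule X.left)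
    (Groth.Agent.VarietyA.CurveFin.isCoh_of_isInvertible Groth.Agent.Fdesc.LocGen.isInvertible_structureModule)
    (((topologicalKrullDim_subspace_le _ _).trans hg.le).trans_lt (by exact_mod_cast Nat.lt_succ_self g)) n
  have h4 : ((Nat.factorial g : ℕ) : ℤ) ≠ 0 := by exact_mod_cast Nat.factorial_ne_zero g
  apply mul_left_cancel₀ h4
  rw [h2, h3, ← h1]
  ring

end K817.Homog
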