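import Groth.Agent.AbVar.K817.VeryAmple
import Groth.Agent.AbVar.K817.Homog
import Groth.Agent.AbVar.K816.FinClosed
import Groth.Agent.AbVar.K515.Bc
import Groth.Agent.S1646
import Groth.Agent.Models.H38.SecDiv
import Groth.Agent.Divis.NormAmple
import Groth.Agent.CohqB.AmpGeneric
import Groth.Agent.CurvesB.VABaseChange
import Groth.Agent.CurvesC.InvSec
import Mathlib.AlgebraicGeometry.Group.Smooth

/-!
# Finiteness of polarized abelian varieties over a finite field

* `Stmt7813`, `Stmt14124`, `Homog.Stmt7858`: the statements of rows S7813, S14124, S7858, used as hypotheses.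
* `isGloballyGenerated_sq`: `M ⊗ M` is globally generated for `M` ample on an abelian variety over any field.
* `subsingleton_HH`: `H^i(M) = 0` for `i > 0`, `M` ample, over any field.
* `finite_av_of`: over a finite field there are finitely many abelian varieties of dimension `g` with an ample module of
  Euler characteristic `c`.
-/

set_option autoImplicit false
universe u
open CategoryTheory CategoryTheory.Limits MonoidalCategory CartesianMonoidalCategory MonObj GrpObj AlgebraicGeometry
  TopologicalSpace Opposite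

namespace K817.FiniteAV

open K515.Bc Groth.Agent.Sga7.H761.BaseChg K817.Homog

/-- The statement of row S7813. -/
def Stmt7813 : Prop := ∀ (k : Type u) [Field k] [IsAlgClosed k] (X : Over (Spec (CommRingCat.of k)))
    [GrpObj X] [IsProper X.hom] [GeometricallyIntegral X.hom]
    (I : X.left.IdealSheafData) (_ : BlowUp.IsEffCartierIdeal I)
    (L : X.left.Modules) (_ : PicF.IsInvertible L) (_ : ClSub.IsInverseOf L (ClSub.idealMod I)),
    Curv2.IsGloballyGenerated (CohB1.tensorMod L L)

/-- The statement of row S14124. -/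
def Stmt14124 : Prop := ∀ (k : Type u) [Field k] [IsAlgClosed k]
    (A : Over (Spec (CommRingCat.of k))) [GrpObj A] [IsProper A.hom] [Smooth A.hom] [GeometricallyConnected A.hom]
    (L : A.left.Modules) (_ : CohB1.IsAmple L),
    (∀ j : ℕ, 0 < j → Subsingleton (Coh.HH A.left L j)) ∧ Nontrivial (Coh.HH A.left L 0)

section closed

variable (k : Type u) [Field k] (A : Over (Spec (CommRingCat.of k))) [GrpObj A] [IsProper A.hom]
  [GeometricallyIntegral A.hom]

theorem smooth : Smooth A.hom := by
  let _ : GrpObj (Over.mk A.hom) := (inferInstance : GrpObj A)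
  exact smooth_of_grpObj A.hom

theorem vanish [IsAlgClosed k] (h : Stmt14124.{u}) (L : A.left.Modules) (hL : CohB1.IsAmple L) :
    (∀ j : ℕ, 0 < j → Subsingleton (Coh.HH A.left L j)) ∧ Nontrivial (Coh.HH A.left L 0) := by
  have := smooth k A
  have : GeometricallyConnected A.hom := by
    refine ⟨fun K _ y Y fst snd hpb => ?_⟩
    have := GeometricallyIrreducible.geometrically_irreducibleSpace (f := A.hom) y fst snd hpb
    infer_instance
  exact h k A L hL

/-- A nonzero section of an invertible module on an integral scheme has an effective Cartier divisor. -/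
theorem exists_divisor {X : Scheme.{u}} [AlgebraicGeometry.IsIntegral X] {M : X.Modules} (hM : PicF.IsInvertible M)
    (h : Nontrivial (Coh.HH X M 0)) :
    ∃ D : X.IdealSheafData, BlowUp.IsEffCartierIdeal D ∧ ClSub.IsInverseOf M (ClSub.idealMod D) := by
  obtain ⟨t', ht'⟩ := exists_ne (0 : Coh.HH X M 0)
  let t : Γ(M, ⊤) := Groth.Agent.CurvesB.HZero.equivAdd M t'
  have ht : t ≠ 0 := fun h => ht' ((Groth.Agent.CurvesB.HZero.equivAdd M).injective (h.trans (map_zero _).symm))
  obtain ⟨D, hD, hMD, -⟩ := Groth.Agent.Models.H38.SecDiv.exists_divisor hM t (by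
    intro U e a he ha
    by_cases hU : Nonempty U.1
    · obtain ⟨x, hx⟩ := hU
      have : Nonempty U.1 := ⟨⟨x, hx⟩⟩
      have hne : a ≠ 0 := by
        rintro rfl
        rw [zero_smul] at ha
        exact ht (Groth.Agent.CurvesC.InvSec.eq_zero_of_res_eq_zero hM (le_top : U.1 ≤ ⊤) ⟨x, hx⟩ t ha)
      exact mem_nonZeroDivisors_of_ne_zero hne
    · have hb : U.1 = ⊥ := by
        ext x
        simp only [Opens.coe_bot, Set.mem_empty_iff_false, iff_false]
        exact fun hx => hU ⟨⟨x, hx⟩⟩
      have hs : Subsingleton Γ(X, U.1) := by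
        rw [hb]
        exact CommRingCat.subsingleton_of_isTerminal X.sheaf.isTerminalOfEmpty
      rw [mem_nonZeroDivisors_iff_right]
      intro x _
      exact Subsingleton.elim _ _)
  exact ⟨D, hD, hMD⟩

end closed

section anyfield

variable (k : Type u) [Field k] (B : Over (Spec (CommRingCat.of k))) [GrpObj B] [IsProper B.hom]
  [GeometricallyIntegral B.hom] {M : B.left.Modules}

omit [GrpObj B] [IsProper B.hom] [GeometricallyIntegral B.hom] in
theorem isAmple_bc (hM : CohB1.IsAmple M) :
    CohB1.IsAmple ((Scheme.Modules.pullback (pr (AlgebraicClosure k) B)).obj M) := by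
  have h1 : IsAffineHom (fKL k (AlgebraicClosure k)) := inferInstance
  have h2 : IsAffineHom (pr (AlgebraicClosure k) B) :=
    MorphismProperty.of_isPullback (isPullback_pr (AlgebraicClosure k) B).flip h1
  exact Groth.Agent.CohqB.AmpCocycle.isAmple_pullback _ hM

/-- `M ⊗ M` is globally generated for `M` ample on an abelian variety. -/
theorem isGloballyGenerated_sq (h1 : Stmt14124.{u}) (h2 : Stmt7813.{u}) (hM : CohB1.IsAmple M) :
    Curv2.IsGloballyGenerated (CohB1.tensorMod M M) := by
  have hA := isAmple_bc k B hM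
  have h3 := vanish (AlgebraicClosure k) (bc (AlgebraicClosure k) B) h1 _ hA
  obtain ⟨D, hD, hMD⟩ := exists_divisor hA.1 h3.2
  have h4 := h2 (AlgebraicClosure k) (bc (AlgebraicClosure k) B) D hD _ hA.1 hMD
  have h5 : Curv2.IsGloballyGenerated ((Scheme.Modules.pullback (pr (AlgebraicClosure k) B)).obj
      (CohB1.tensorMod M M)) :=
    Groth.Agent.Ega2.GlobGenCrit.isGloballyGenerated_of_iso
      (Groth.Agent.Ega3B.PullTensor.pullTensorIso (pr (AlgebraicClosure k) B) hM.1 hM.1).symm h4
  have : CompactSpace B.left := (quasiCompact_iff_compactSpace (f := B.hom)).mp inferInstance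
  have : QuasiSeparatedSpace B.left := (quasiSeparated_iff_quasiSeparatedSpace (f := B.hom)).mp inferInstance
  refine Groth.Agent.S1646.descend (isPullback_pr (AlgebraicClosure k) B) ?_ _
    (Groth.Agent.VarietyA.CurveFin.isCoh_of_isInvertible
      (Groth.Agent.Fdesc.LocGen.isInvertible_tensorMod hM.1 hM.1)).1 h5
  change (algebraMap k (AlgebraicClosure k)).FaithfullyFlat
  rw [RingHom.faithfullyFlat_algebraMap_iff]
  infer_instance

/-- `H^i(M) = 0` for `i > 0`, `M` ample on an abelian variety. -/
theorem subsingleton_HH (h1 : Stmt14124.{u}) (hM : CohB1.IsAmple M) (i : ℕ) (hi : 0 < i) :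
    Subsingleton (Coh.HH B.left M i) := by
  let _ : B.left.Over (Spec (CommRingCat.of k)) := ⟨B.hom⟩
  have hp : IsProper (B.left ↘ Spec (CommRingCat.of k)) := (inferInstance : IsProper B.hom)
  let _ : (bc (AlgebraicClosure k) B).left.Over (Spec (CommRingCat.of (AlgebraicClosure k))) :=
    ⟨(bc (AlgebraicClosure k) B).hom⟩
  have h3 := (vanish (AlgebraicClosure k) (bc (AlgebraicClosure k) B) h1 _ (isAmple_bc k B hM)).1 i hi
  have h4 := Groth.Agent.CurvesB.VABaseChange.finrank_eq (k := k) (K := AlgebraicClosure k) (X := B.left)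
    (X' := (bc (AlgebraicClosure k) B).left) (isPullback_pr (AlgebraicClosure k) B) M
    (Groth.Agent.VarietyA.CurveFin.isCoh_of_isInvertible hM.1).1 i
  have h5 := Groth.Agent.VarietyA.CurveFin.finite_HH k B.left hM.1 i
  rw [Module.finrank_zero_of_subsingleton] at h4
  exact Module.finrank_zero_iff.1 h4.symm

end anyfield

open Groth.Agent.Fga.PicMon in
/-- **Finiteness of polarized abelian varieties over a finite field** (with the three rows as hypotheses). -/
theorem finite_av_of (h7858 : Stmt7858.{u}) (h7813 : Stmt7813.{u}) (h14124 : Stmt14124.{u})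
    (k : Type u) [Field k] [Finite k] (g : ℕ) (c : ℤ) :
    ∃ (n : ℕ) (Bs : Fin n → Over (Spec (CommRingCat.of k))),
      ∀ (B : Over (Spec (CommRingCat.of k))) [GrpObj B] [IsCommMonObj B] [IsProper B.hom] [GeometricallyIntegral B.hom]
        (M : B.left.Modules), topologicalKrullDim B.left = g → PicF.IsInvertible M → CohB1.IsAmple M →
        Nonempty ((Scheme.Modules.pullback ((𝟙 B)⁻¹).left).obj M ≅ M) →
        @Curv2.euler k _ B.left ⟨B.hom⟩ M = c → ∃ i : Fin n, Nonempty (B ≅ Bs i) := by
  let P : Polynomial ℚ := Polynomial.C (((2 * (g + 1) : ℤ) ^ g * c : ℤ) : ℚ) * Polynomial.X ^ g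
  let N₀ : ℕ := ((2 * (g + 1) : ℤ) ^ g * c - 1).toNat
  obtain ⟨n, Bs, hBs⟩ := K816.FinClosed.finite_closed k N₀ P
  refine ⟨n, Bs, ?_⟩
  intro B _ _ _ _ M hg hM hA _ hc
  let _ : B.left.Over (Spec (CommRingCat.of k)) := ⟨B.hom⟩
  have hp : IsProper (B.left ↘ Spec (CommRingCat.of k)) := (inferInstance : IsProper B.hom)
  have hL : PicF.IsInvertible (CohB1.tensorMod M M) := Groth.Agent.Fdesc.LocGen.isInvertible_tensorMod hM hM
  have e2 : Nonempty (CohB1.tensorPow M 2 ≅ CohB1.tensorMod M M) := by
    rw [← mc_eq_iff, mc_tensorPow, mc_tensor, pow_two]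
  have hLA : CohB1.IsAmple (CohB1.tensorMod M M) :=
    Groth.Agent.CohqB.AmpCocycle.isAmple_of_iso e2.some (Groth.Agent.Divis.NormAmple.isAmple_tensorPow hA two_pos)
  have hgg := isGloballyGenerated_sq k B h14124 h7813 hA
  have hv : ∀ i j : ℕ, 0 < i → 0 < j → Subsingleton (Coh.HH B.left (CohB1.tensorPow (CohB1.tensorMod M M) j) i) :=
    fun i j hi hj => subsingleton_HH k B h14124 (Groth.Agent.Divis.NormAmple.isAmple_tensorPow hLA hj) i hi
  obtain ⟨N, f, hf, hfk, ⟨ef⟩, hN⟩ := K817.VeryAmple.veryAmple k B g hg _ hL hLA hgg hv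
  have hχ : ∀ (t : ℕ) (F : B.left.Modules), mc F = mc M ^ t → @Curv2.euler k _ B.left ⟨B.hom⟩ F = (t : ℤ) ^ g * c := by
    intro t F hF
    rw [← mc_tensorPow, mc_eq_iff] at hF
    obtain ⟨e⟩ := hF
    have h1 := euler_pow h7858 k B g hg M hM t
    rw [hc] at h1
    rw [← h1]
    unfold Curv2.euler
    refine finsum_congr fun i => ?_
    rw [(Groth.Agent.CurvesA.HHMap.equivOver k e i).finrank_eq]
  have h5 : (N : ℤ) + 1 = (2 * (g + 1) : ℤ) ^ g * c := by
    rw [hN, hχ (2 * (g + 1))]
    · push_cast
      ring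
    · rw [mc_tensorPow, mc_tensor, ← pow_two, ← pow_mul]
  have h6 : N = N₀ := by
    change N = ((2 * (g + 1) : ℤ) ^ g * c - 1).toNat
    omega
  subst h6
  refine hBs B f hf hfk fun t => ?_
  rw [hχ (2 * (g + 1) * t)]
  · simp only [P, Polynomial.eval_mul, Polynomial.eval_C, Polynomial.eval_pow, Polynomial.eval_X]
    push_cast
    rw [mul_pow, mul_pow]
    ring
  · rw [mc_tensorPow, mc_eq ef, mc_tensorPow, mc_tensor, ← pow_two, ← pow_mul, ← pow_mul, _root_.mul_assoc]

end K817.FiniteAV
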