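import Groth.Agent.Ega2.H296.PnGen
import Groth.Agent.Ega3B.ProjAmple
import Groth.Agent.Ega2.WeightPull
import Groth.Agent.ZeroCyc.K755.ProjEmb
import Groth.Agent.CohqB.ProjLift
import Groth.Agent.Krr.H484.PnHom

/-!
# Points of projective space over a field: coordinates, `secKernel` and forms

* `val y i h`: the values at a `k`-point `y` of `D₊(X_i) ⊆ P^m_k` of the functions on `D₊(X_i)`.
* `mem_secKernel_iff`: `c ∈ secKernel y ↔ Σ c_j · (X_j/X_i)(y) = 0`.
* `onForm_iff`: a form `F` vanishes at a nonzero vector of homogeneous coordinates of `y` iff `y ∉ D₊(F)`.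
* `formSec φ F`: the section of `φ^* O(s)` attached to a form of degree `s`; `genLocus_formSec`.
-/

set_option autoImplicit false
universe u

open CategoryTheory CategoryTheory.Limits AlgebraicGeometry Opposite TopologicalSpace HomogeneousLocalization
open Groth.Agent.CurvesC.ProjSpaceBasic (T Dp ratio X_mem Xh iSup_Dp)

namespace K817.FormSec

section Form

open Groth.Agent.Fdesc.LocGen Groth.Agent.Ega2 Twist
open K755.ProjEmb (one_notMem)

variable {R A : Type u} [CommRing R] [CommRing A] [Algebra R A] {𝒜 : ℕ → Submodule R A} [GradedAlgebra 𝒜]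

/-- Ratios of sections over `D₊(f)`. -/
theorem sec_eq_smul' {n : ℕ} (f : A) (g c : 𝒜 n) (z : Away 𝒜 f)
    (hz : z.val * algebraMap A _ g.1 = algebraMap A _ c.1) :
    sec (VeryAmpleAmple.globalSec c) (Proj.basicOpen 𝒜 f) =
      (Proj.awayToSection 𝒜 f).hom z • sec (VeryAmpleAmple.globalSec g) (Proj.basicOpen 𝒜 f) := by
  rw [VeryAmpleAmple.sec_globalSec, VeryAmpleAmple.sec_globalSec]
  refine Subtype.ext (funext fun x => Subtype.ext ?_)
  refine Eq.trans ?_ (TwistBasic.smulS_val (𝒜 := 𝒜) (n : ℤ) ((Proj.awayToSection 𝒜 f).hom z) _ x).symm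
  obtain ⟨x, hx⟩ := x
  obtain ⟨y, rfl⟩ : ∃ y : ProjectiveSpectrum 𝒜, y = x := ⟨x, rfl⟩
  have hy : Submonoid.powers f ≤ Submonoid.comap (RingHom.id A) y.asHomogeneousIdeal.toIdeal.primeCompl :=
    Submonoid.powers_le.mpr hx
  have e1 : ((show Twist.O (𝒜 := 𝒜) (op (Proj.basicOpen 𝒜 f)) from (Proj.awayToSection 𝒜 f).hom z).1 ⟨y, hx⟩).val =
      IsLocalization.map (M := Submonoid.powers f) (T := y.asHomogeneousIdeal.toIdeal.primeCompl) (Twist.Loc 𝒜 y)
        (RingHom.id _) hy z.val :=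
    ProjectiveSpectrum.Proj.awayToSection_apply (𝒜 := 𝒜) f z ⟨y, hx⟩
  refine Eq.trans ?_ (congrArg (fun w => w * (Localization.mk g.1 ⟨1, one_notMem y⟩ : Twist.Loc 𝒜 y)) e1).symm
  have h2 := congrArg (IsLocalization.map (M := Submonoid.powers f) (T := y.asHomogeneousIdeal.toIdeal.primeCompl)
    (Twist.Loc 𝒜 y) (RingHom.id _) hy) hz
  rw [map_mul, IsLocalization.map_eq, IsLocalization.map_eq, RingHom.id_apply, RingHom.id_apply] at h2
  have h3 : ∀ w : A, (Localization.mk w ⟨1, one_notMem y⟩ : Twist.Loc 𝒜 y) = algebraMap A _ w := fun w => by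
    rw [← Localization.mk_one_eq_algebraMap]; rfl
  show (Localization.mk c.1 ⟨1, _⟩ : Twist.Loc 𝒜 y) = _
  rw [h3, h3]
  exact h2.symm

end Form

section PS

open Groth.Agent.Fdesc.LocGen Groth.Agent.Ega2 Groth.Agent.Ega3B.ProjAmple

variable {m : ℕ} {k : Type u} [Field k]

theorem pow_mem (i : Fin (m + 1)) (s : ℕ) :
    (MvPolynomial.X i ^ s : MvPolynomial (Fin (m + 1)) k) ∈ CohB1.polyGrading m k s := by
  have h := MvPolynomial.isHomogeneous_X_pow (R := k) i s
  exact (MvPolynomial.mem_homogeneousSubmodule _ _).2 h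

theorem coveredBy (s : ℕ) : CoveredBy (CohB1.polyGrading m k) s := by
  intro x
  obtain ⟨j, hj⟩ := VeryAmpleAmple.exists_notMem_X (x : ProjectiveSpectrum (CohB1.polyGrading m k))
  refine ⟨⟨MvPolynomial.X j ^ s, pow_mem j s⟩, fun h => hj ?_⟩
  exact (x : ProjectiveSpectrum (CohB1.polyGrading m k)).isPrime.mem_of_pow_mem s h

/-- The dehomogenization of a form of degree `s`, as a function on `D₊(X_i)`. -/
theorem basicOpen_deh (i : Fin (m + 1)) (s : ℕ) (F : MvPolynomial (Fin (m + 1)) k)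
    (hF : F ∈ CohB1.polyGrading m k (s • 1)) (hF' : F ∈ CohB1.polyGrading m k s) :
    (CohB1.ProjSpace m k).basicOpen (show Γ(CohB1.ProjSpace m k, Dp m k i) from
      (Proj.awayToSection (CohB1.polyGrading m k) (MvPolynomial.X i)).hom
        (Away.mk (CohB1.polyGrading m k) (X_mem m k i) s F hF)) =
      Proj.basicOpen (CohB1.polyGrading m k) F ⊓ Dp m k i := by
  have h1 := sec_eq_smul' (𝒜 := CohB1.polyGrading m k) (MvPolynomial.X i)
    (⟨MvPolynomial.X i ^ s, pow_mem i s⟩ : CohB1.polyGrading m k s) ⟨F, hF'⟩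
    (Away.mk (CohB1.polyGrading m k) (X_mem m k i) s F hF) (by
      have h := K755.ProjEmb.mk_val_mul (𝒜 := CohB1.polyGrading m k)
        (⟨MvPolynomial.X i, X_mem m k i⟩ : CohB1.polyGrading m k 1) s F hF
      exact h)
  have h2 : IsGen (sec (VeryAmpleAmple.globalSec
      (⟨MvPolynomial.X i ^ s, pow_mem i s⟩ : CohB1.polyGrading m k s)) (Dp m k i)) := by
    rw [← le_genLocus_iff, genLocus_globalSec (coveredBy s)]
    intro x hx h3
    exact hx ((x : ProjectiveSpectrum (CohB1.polyGrading m k)).isPrime.mem_of_pow_mem s h3)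
  have h3 := genLocus_inf_eq _ h2 h1
  rw [genLocus_globalSec (coveredBy s)] at h3
  exact h3.symm

end PS

section Pt

open Groth.Agent.Fdesc.LocGen Groth.Agent.Ega2.H296 Groth.Agent.CurvesC.ProjMap

variable {m : ℕ} {k : Type u} [Field k] (y : Spec (CommRingCat.of k) ⟶ CohB1.ProjSpace m k)

theorem isUnit_of_basicOpen_eq_top {X : Scheme.{u}} (f : Γ(X, ⊤)) (h : X.basicOpen f = ⊤) : IsUnit f := by
  have h5 : IsUnit (X.presheaf.map (homOfLE (X.basicOpen_le f)).op f) := RingedSpace.isUnit_res_basicOpen X.toRingedSpace f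
  have h6 := h5.map (X.presheaf.map (homOfLE h.ge).op).hom
  change IsUnit (X.presheaf.map (homOfLE h.ge).op (X.presheaf.map (homOfLE (X.basicOpen_le f)).op f)) at h6
  rw [← ConcreteCategory.comp_apply, ← Functor.map_comp] at h6
  have h7 : (homOfLE (X.basicOpen_le f)).op ≫ (homOfLE h.ge).op = 𝟙 (op ⊤) := rfl
  rw [h7, CategoryTheory.Functor.map_id] at h6
  exact h6

/-- The closed point. -/
noncomputable abbrev pt (k : Type u) [Field k] : (Spec (CommRingCat.of k) : Scheme.{u}) :=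
  (IsLocalRing.closedPoint k : PrimeSpectrum k)

theorem le_preimage_iff (W : (CohB1.ProjSpace m k).Opens) :
    (⊤ : (Spec (CommRingCat.of k)).Opens) ≤ y ⁻¹ᵁ W ↔ y (pt k) ∈ W := by
  constructor
  · intro h
    exact h (trivial : pt k ∈ (⊤ : (Spec (CommRingCat.of k)).Opens))
  · intro h x _
    have hx : x = pt k := Subsingleton.elim (α := PrimeSpectrum k) _ _
    rw [hx]
    exact h

theorem exists_Dp : ∃ i, (⊤ : (Spec (CommRingCat.of k)).Opens) ≤ y ⁻¹ᵁ Dp m k i := by
  have h : y (pt k) ∈ ⨆ i, Dp m k i := by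
    rw [iSup_Dp]
    trivial
  obtain ⟨i, hi⟩ := Opens.mem_iSup.1 h
  exact ⟨i, (le_preimage_iff y _).2 hi⟩

/-- The values at `y` of functions on `D₊(X_i)`. -/
noncomputable def val (i : Fin (m + 1)) (h : (⊤ : (Spec (CommRingCat.of k)).Opens) ≤ y ⁻¹ᵁ Dp m k i) :
    Γ(CohB1.ProjSpace m k, Dp m k i) →+* k :=
  (Scheme.ΓSpecIso (CommRingCat.of k)).hom.hom.comp (y.appLE (Dp m k i) ⊤ h).hom

theorem val_eq_zero_iff (i : Fin (m + 1)) (h : (⊤ : (Spec (CommRingCat.of k)).Opens) ≤ y ⁻¹ᵁ Dp m k i)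
    (f : Γ(CohB1.ProjSpace m k, Dp m k i)) :
    val y i h f = 0 ↔ y (pt k) ∉ (CohB1.ProjSpace m k).basicOpen f := by
  rw [← le_preimage_iff, not_iff_not.symm, not_not]
  constructor
  · intro hne
    have h1 : IsUnit (val y i h f) := isUnit_iff_ne_zero.2 hne
    have h2 : IsUnit (y.appLE (Dp m k i) ⊤ h f) := by
      have h3 := h1.map (Scheme.ΓSpecIso (CommRingCat.of k)).inv.hom
      change IsUnit ((Scheme.ΓSpecIso (CommRingCat.of k)).inv
        ((Scheme.ΓSpecIso (CommRingCat.of k)).hom (y.appLE (Dp m k i) ⊤ h f))) at h3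
      rwa [← ConcreteCategory.comp_apply, Iso.hom_inv_id] at h3
    have h4 := Scheme.basicOpen_of_isUnit _ h2
    rw [Scheme.basicOpen_appLE, top_inf_eq] at h4
    rw [h4]
  · intro h1 h2
    have h3 : (Spec (CommRingCat.of k)).basicOpen (y.appLE (Dp m k i) ⊤ h f) = ⊤ := by
      rw [Scheme.basicOpen_appLE, top_inf_eq]
      exact top_le_iff.1 h1
    have h4 : IsUnit (y.appLE (Dp m k i) ⊤ h f) := by
      exact isUnit_of_basicOpen_eq_top _ h3
    have h5 : IsUnit (val y i h f) := h4.map (Scheme.ΓSpecIso (CommRingCat.of k)).hom.hom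
    exact h5.ne_zero h2

theorem val_struct (hy : y ≫ CohB1.ProjSpace.toSpec m k = 𝟙 _) (i : Fin (m + 1))
    (h : (⊤ : (Spec (CommRingCat.of k)).Opens) ≤ y ⁻¹ᵁ Dp m k i) (c : k) :
    val y i h (struct (CohB1.ProjSpace.toSpec m k) (Dp m k i) c) = c := by
  change (Scheme.ΓSpecIso (CommRingCat.of k)).hom (y.appLE (Dp m k i) ⊤ h
    (struct (CohB1.ProjSpace.toSpec m k) (Dp m k i) c)) = c
  rw [Groth.Agent.CohqB.ProjLift.appLE_eq, Groth.Agent.CurvesC.ProjClosed.app_struct, map_struct, hy]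
  have h1 : struct (𝟙 (Spec (CommRingCat.of k))) ⊤ c = (Scheme.ΓSpecIso (CommRingCat.of k)).inv c := by
    change (Spec (CommRingCat.of k)).presheaf.map (𝟙 (op ⊤)) ((𝟙 (Spec (CommRingCat.of k)) : Spec (CommRingCat.of k) ⟶ _).appTop
      ((Scheme.ΓSpecIso (CommRingCat.of k)).inv c)) = _
    rw [CategoryTheory.Functor.map_id, Scheme.Hom.id_appTop]
    rfl
  rw [h1, ← ConcreteCategory.comp_apply, Iso.inv_hom_id]
  rfl

theorem val_deh (hy : y ≫ CohB1.ProjSpace.toSpec m k = 𝟙 _) (i : Fin (m + 1))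
    (h : (⊤ : (Spec (CommRingCat.of k)).Opens) ≤ y ⁻¹ᵁ Dp m k i) (s : ℕ) (F : MvPolynomial (Fin (m + 1)) k)
    (hF : F ∈ CohB1.polyGrading m k (s • 1)) :
    val y i h ((Proj.awayToSection (CohB1.polyGrading m k) (MvPolynomial.X i)).hom
        (Away.mk (CohB1.polyGrading m k) (X_mem m k i) s F hF)) =
      MvPolynomial.eval (fun j => val y i h (ratio m k i j)) F := by
  have h1 := Groth.Agent.CohqB.ProjLift.awayToSection_mk m k i s F hF
  refine (congrArg (val y i h) h1).trans ?_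
  refine (MvPolynomial.hom_eval₂ F (struct (CohB1.ProjSpace.toSpec m k) (Dp m k i)) (val y i h)
    (ratio m k i)).trans ?_
  have h2 : (val y i h).comp (struct (CohB1.ProjSpace.toSpec m k) (Dp m k i)) = RingHom.id k := by
    ext c
    exact val_struct y hy i h c
  exact congrArg (fun r => MvPolynomial.eval₂ r (fun j => val y i h (ratio m k i j)) F) h2

/-- The generator of `y^* O(1)` given by the `i`-th coordinate. -/
theorem y_eq_smul (i : Fin (m + 1)) (h : (⊤ : (Spec (CommRingCat.of k)).Opens) ≤ y ⁻¹ᵁ Dp m k i) :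
    ∃ e : Γ((Scheme.Modules.pullback y).obj (Twist.twistProjSpace m k 1), ⊤), IsGen e ∧
      ∀ j, PnGen.y (A := CommRingCat.of k) y j = y.appLE (Dp m k i) ⊤ h (ratio m k i j) • e := by
  let c : Fin (m + 1) → Γ(Twist.twistProjSpace m k 1, ⊤) := fun j => ProjUP.coord m k j
  let e0 : Γ(Twist.twistProjSpace m k 1, Dp m k i) := res _ le_top (c i)
  have he0 : IsGen e0 := PnGen.isGen_res_coord i
  have h1 : ∀ j, res (Twist.twistProjSpace m k 1) (le_top : Dp m k i ≤ ⊤) (c j) = ratio m k i j • e0 := fun j =>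
    Groth.Agent.CurvesC.TwistGen.glob_eq_smul (CohB1.polyGrading m k) (Xh m k i) (Xh m k j)
  refine ⟨res _ h (pullSec y e0), (he0.pullSec y).res h, fun j => ?_⟩
  have h2 : res ((Scheme.Modules.pullback y).obj (Twist.twistProjSpace m k 1)) (le_top : y ⁻¹ᵁ Dp m k i ≤ ⊤)
      (pullSec y (c j)) = pullSec y (ratio m k i j • e0) := by
    rw [← h1 j]
    exact res_pullSec y (le_top : Dp m k i ≤ ⊤) (c j)
  rw [pullSec_smul] at h2
  have h3 := congrArg (res ((Scheme.Modules.pullback y).obj (Twist.twistProjSpace m k 1)) h) h2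
  rw [res_smul, res_res, res_refl] at h3
  exact h3

/-- Membership in `secKernel` in terms of the coordinates. -/
theorem mem_secKernel_iff (i : Fin (m + 1)) (h : (⊤ : (Spec (CommRingCat.of k)).Opens) ≤ y ⁻¹ᵁ Dp m k i)
    (c : Fin (m + 1) → k) : c ∈ ProjUP.secKernel m k y ↔ ∑ j, c j * val y i h (ratio m k i j) = 0 := by
  obtain ⟨e, he, hj⟩ := y_eq_smul y i h
  rw [PnGen.mem_secKernel_iff, PnGen.evalMap_apply']
  have h1 : (∑ j, ((Scheme.ΓSpecIso (CommRingCat.of k)).inv.hom (c j) : Γ(Spec (CommRingCat.of k), ⊤)) •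
      PnGen.y (A := CommRingCat.of k) y j) =
      (∑ j, (Scheme.ΓSpecIso (CommRingCat.of k)).inv.hom (c j) * y.appLE (Dp m k i) ⊤ h (ratio m k i j)) • e := by
    rw [Finset.sum_smul]
    refine Finset.sum_congr rfl fun j _ => ?_
    rw [hj j, smul_smul]
  rw [h1]
  have h2 : ∀ z : Γ(Spec (CommRingCat.of k), ⊤), z • e = 0 ↔ z = 0 := by
    intro z
    constructor
    · intro hz
      exact he.ext (hz.trans (zero_smul _ _).symm)
    · rintro rfl
      rw [zero_smul]
  rw [h2]
  have h3 : (Scheme.ΓSpecIso (CommRingCat.of k)).hom.hom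
      (∑ j, (Scheme.ΓSpecIso (CommRingCat.of k)).inv.hom (c j) * y.appLE (Dp m k i) ⊤ h (ratio m k i j)) =
      ∑ j, c j * val y i h (ratio m k i j) := by
    rw [map_sum]
    refine Finset.sum_congr rfl fun j _ => ?_
    rw [map_mul]
    congr 1
    change (Scheme.ΓSpecIso (CommRingCat.of k)).hom ((Scheme.ΓSpecIso (CommRingCat.of k)).inv (c j)) = c j
    rw [← ConcreteCategory.comp_apply, Iso.inv_hom_id]
    rfl
  rw [← h3]
  constructor
  · intro h4
    rw [h4, map_zero]
  · intro h4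
    have h5 := congrArg (Scheme.ΓSpecIso (CommRingCat.of k)).inv.hom h4
    rw [map_zero] at h5
    change (Scheme.ΓSpecIso (CommRingCat.of k)).inv ((Scheme.ΓSpecIso (CommRingCat.of k)).hom _) = 0 at h5
    rw [← ConcreteCategory.comp_apply, Iso.hom_inv_id] at h5
    exact h5

theorem val_self (i : Fin (m + 1)) (h : (⊤ : (Spec (CommRingCat.of k)).Opens) ≤ y ⁻¹ᵁ Dp m k i) :
    val y i h (ratio m k i i) = 1 := by
  have h1 : ratio m k i i = 1 :=
    (Groth.Agent.Krr.H484.PnHom.isGen_coordSec m k i).ext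
      ((Groth.Agent.CurvesC.ProjSpaceBasic.ratio_smul m k i i).trans (one_smul _ _).symm)
  rw [h1, map_one]

/-- `y` lies on `F = 0`, in homogeneous coordinates, iff `y ∉ D₊(F)`. -/
theorem onForm_iff (hy : y ≫ CohB1.ProjSpace.toSpec m k = 𝟙 _) {s : ℕ} {F : MvPolynomial (Fin (m + 1)) k}
    (hF : F.IsHomogeneous s) :
    (∃ v : Fin (m + 1) → k, v ≠ 0 ∧ (∀ c : Fin (m + 1) → k, c ∈ ProjUP.secKernel m k y ↔ ∑ i, c i * v i = 0) ∧
      MvPolynomial.eval v F = 0) ↔ y (pt k) ∉ Proj.basicOpen (CohB1.polyGrading m k) F := by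
  obtain ⟨i, h⟩ := exists_Dp y
  have hFs : F ∈ CohB1.polyGrading m k (s • 1) := by
    rw [smul_eq_mul, mul_one]
    exact (MvPolynomial.mem_homogeneousSubmodule _ _).2 hF
  have hFs' : F ∈ CohB1.polyGrading m k s := (MvPolynomial.mem_homogeneousSubmodule _ _).2 hF
  set a : Fin (m + 1) → k := fun j => val y i h (ratio m k i j) with ha
  have hai : a i = 1 := val_self y i h
  have hyi : y (pt k) ∈ Dp m k i := (le_preimage_iff y _).1 h
  have key : MvPolynomial.eval a F = 0 ↔ y (pt k) ∉ Proj.basicOpen (CohB1.polyGrading m k) F := by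
    have h1 := val_deh y hy i h s F hFs
    have h2 := val_eq_zero_iff y i h ((Proj.awayToSection (CohB1.polyGrading m k) (MvPolynomial.X i)).hom
        (Away.mk (CohB1.polyGrading m k) (X_mem m k i) s F hFs))
    rw [← h1]
    refine h2.trans ?_
    have h3 := basicOpen_deh i s F hFs hFs'
    constructor
    · intro h4 h5
      apply h4
      have h6 : y (pt k) ∈ Proj.basicOpen (CohB1.polyGrading m k) F ⊓ Dp m k i := ⟨h5, hyi⟩
      rw [← h3] at h6
      exact h6
    · intro h4 h5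
      apply h4
      have h6 : y (pt k) ∈ Proj.basicOpen (CohB1.polyGrading m k) F ⊓ Dp m k i := by
        rw [← h3]
        exact h5
      exact h6.1
  rw [← key]
  constructor
  · rintro ⟨v, hv, hker, hev⟩
    have h1 : ∀ c : Fin (m + 1) → k, ∑ j, c j * a j = 0 ↔ ∑ j, c j * v j = 0 := fun c =>
      (mem_secKernel_iff y i h c).symm.trans (hker c)
    -- `v = v i • a`
    have h2 : v = v i • a := by
      funext j
      have h3 := (h1 (Pi.single j 1 - a j • Pi.single i 1)).1 (by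
        simp only [Pi.sub_apply, Pi.smul_apply, smul_eq_mul, sub_mul, Finset.sum_sub_distrib, Pi.single_apply,
          ite_mul, one_mul, zero_mul, Finset.sum_ite_eq', Finset.mem_univ, if_true, mul_ite, mul_one, mul_zero]
        rw [hai]
        ring)
      simp only [Pi.sub_apply, Pi.smul_apply, smul_eq_mul, sub_mul, Finset.sum_sub_distrib, Pi.single_apply,
          ite_mul, one_mul, zero_mul, Finset.sum_ite_eq', Finset.mem_univ, if_true, mul_ite, mul_one, mul_zero] at h3
      rw [Pi.smul_apply, smul_eq_mul, mul_comm]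
      exact sub_eq_zero.1 h3
    have h3 : v i ≠ 0 := by
      intro h4
      apply hv
      rw [h2, h4, zero_smul]
    rw [h2] at hev
    have h4 : MvPolynomial.eval (v i • a) F = v i ^ s * MvPolynomial.eval a F :=
      eval₂_smul (RingHom.id k) (v i) a hF
    rw [h4] at hev
    exact (mul_eq_zero.1 hev).resolve_left (pow_ne_zero _ h3)
  · intro hev
    refine ⟨a, fun h0 => ?_, fun c => mem_secKernel_iff y i h c, hev⟩
    have := congrFun h0 i
    rw [hai] at this
    exact one_ne_zero this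

end Pt

section Sec

open Groth.Agent.Fdesc.LocGen Groth.Agent.Ega2 Groth.Agent.Ega3B.ProjAmple Groth.Agent.Ega2.Weight

variable {m : ℕ} {k : Type u} [Field k] {X : Scheme.{u}} (φ : X ⟶ CohB1.ProjSpace m k)

/-- The section of `φ^* O(s)` given by a form of degree `s`. -/
noncomputable def formSec {s : ℕ} {F : MvPolynomial (Fin (m + 1)) k} (hF : F.IsHomogeneous s) :
    Coh.structureModule X ⟶ (Scheme.Modules.pullback φ).obj (Twist.twistProjSpace m k (s : ℤ)) :=
  Groth.Agent.Ega2.Weight.pullHom φ (VeryAmpleAmple.globalSec (𝒜 := CohB1.polyGrading m k)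
    ⟨F, (MvPolynomial.mem_homogeneousSubmodule _ _).2 hF⟩)

theorem genLocus_formSec {s : ℕ} {F : MvPolynomial (Fin (m + 1)) k} (hF : F.IsHomogeneous s) :
    CohB1.genLocus _ (formSec φ hF) = φ ⁻¹ᵁ Proj.basicOpen (CohB1.polyGrading m k) F := by
  have h1 := genLocus_pullHom φ (VeryAmpleAmple.isInvertible_twistProjSpace m k (s : ℤ))
    (VeryAmpleAmple.globalSec (𝒜 := CohB1.polyGrading m k) ⟨F, (MvPolynomial.mem_homogeneousSubmodule _ _).2 hF⟩)
  have h2 := genLocus_globalSec (coveredBy (m := m) (k := k) s)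
    ⟨F, (MvPolynomial.mem_homogeneousSubmodule _ _).2 hF⟩
  exact h1.trans (congrArg (fun W => φ ⁻¹ᵁ W) h2)

theorem isInvertible (s : ℤ) : PicF.IsInvertible ((Scheme.Modules.pullback φ).obj (Twist.twistProjSpace m k s)) :=
  isInvertible_pullback φ (VeryAmpleAmple.isInvertible_twistProjSpace m k s)

/-- The section generates at the image of a point iff the point is off the hypersurface. -/
theorem onForm_iff_genLocus (x : Spec (CommRingCat.of k) ⟶ X)
    (hx : (x ≫ φ) ≫ CohB1.ProjSpace.toSpec m k = 𝟙 _) {s : ℕ} {F : MvPolynomial (Fin (m + 1)) k}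
    (hF : F.IsHomogeneous s) :
    (∃ v : Fin (m + 1) → k, v ≠ 0 ∧
      (∀ c : Fin (m + 1) → k, c ∈ ProjUP.secKernel m k (x ≫ φ) ↔ ∑ i, c i * v i = 0) ∧
      MvPolynomial.eval v F = 0) ↔ x (pt k) ∉ CohB1.genLocus _ (formSec φ hF) := by
  rw [onForm_iff (x ≫ φ) hx hF, genLocus_formSec]
  rfl

end Sec

end K817.FormSec
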