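import Groth.Agent.Sga67.CMReg
import Groth.Agent.CurvesC.PullIso
import Groth.Agent.CurvesB.HZero

/-!
# The family `a ↦ φ^* O(a)` with its coordinate operators, for a morphism `φ : X ⟶ P^r_R`

* `pull_rel`: a relation `f = c • f'` between morphisms of modules (with invertible source) is preserved by pullback.
* `gr φ`: the family `a ↦ φ^* O(a)` with the operators `X_i`.
* `framed φ`: its frame, when the `φ⁻¹ D_+(X_i)` are affine.
* `exists_sum`: Koszul dimension shifting for a locally invertible family of operators: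
  if `H^j(G (a - j)) = 0` for `1 ≤ j < r`, every section of `G (a + 1)` is a sum of `x i (s i)`.
-/

set_option autoImplicit false
universe u
open CategoryTheory CategoryTheory.Limits AlgebraicGeometry Opposite TopologicalSpace

namespace K817.PullGr

open Groth.Agent.Fdesc.LocGen (IsGen pullSec)
open Groth.Agent.Ega4dA.GenSec
open Groth.Agent.VarietyB.KoszulCone Groth.Agent.VarietyB.KoszulShift Groth.Agent.Fga.TwistGr
  Groth.Agent.Fga.HShift Groth.Agent.Ega3B.ProjFrame Groth.Agent.Ega3B.Frame Groth.Agent.Sga67.FramedGr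

variable {X Y : Scheme.{u}}

/-- A relation between morphisms out of an invertible module is preserved by pullback. -/
theorem pull_rel (p : X ⟶ Y) {N N' : Y.Modules} (hN : PicF.IsInvertible N) (f f' : N ⟶ N') (U : Y.Opens)
    (g : Γ(Y, U)) (h : ∀ (V : Y.Opens) (hV : V ≤ U) (s : Γ(N, V)), f.app V s = resO Y hV g • f'.app V s)
    (V : X.Opens) (hV : V ≤ p ⁻¹ᵁ U) (s : Γ((Scheme.Modules.pullback p).obj N, V)) :
    ((Scheme.Modules.pullback p).map f).app V s =
      resO X hV (p.app U g) • ((Scheme.Modules.pullback p).map f').app V s := by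
  refine eq_of_locally _ fun x hx => ?_
  obtain ⟨W₀, e₀, hxW₀, he₀⟩ := (Groth.Agent.Fdesc.LocGen.isInvertible_iff N).1 hN (p x)
  let W : Y.Opens := W₀ ⊓ U
  let e : Γ(N, W) := Groth.Agent.Fdesc.LocGen.res N inf_le_left e₀
  have he : IsGen e := he₀.res inf_le_left
  have hWU : W ≤ U := inf_le_right
  have hxW : p x ∈ W := ⟨hxW₀, hV hx⟩
  let V' : X.Opens := V ⊓ p ⁻¹ᵁ W
  have hV'V : V' ≤ V := inf_le_left
  have hV'W : V' ≤ p ⁻¹ᵁ W := inf_le_right
  refine ⟨V', hV'V, ⟨hx, hxW⟩, ?_⟩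
  have hpe := (he.pullSec p).res hV'W
  obtain ⟨c, hc⟩ := hpe.exists_eq (Groth.Agent.Fdesc.LocGen.res _ hV'V s)
  have hc' : res _ hV'V s = c • res _ hV'W (pullSec p e) := hc
  rw [← app_res', res_smul, ← app_res', hc', Scheme.Modules.Hom.app_smul, Scheme.Modules.Hom.app_smul, app_res',
    app_res']
  rw [Groth.Agent.Fdesc.LocGen.pullback_map_pullSec, Groth.Agent.Fdesc.LocGen.pullback_map_pullSec, h W hWU e,
    Groth.Agent.Fdesc.LocGen.pullSec_smul, res_smul, smul_smul, smul_smul, mul_comm]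
  congr 2
  rw [resO_resO]
  have h3 : p.app W (resO Y hWU g) = resO X (p.preimage_mono hWU) (p.app U g) :=
    congr($(p.naturality (homOfLE hWU).op) g)
  rw [h3, resO_resO]

variable {r : ℕ} {R : Type u} [CommRing R]

/-- The family `a ↦ O(a)` on projective space. -/
noncomputable def grP (r : ℕ) (R : Type u) [CommRing R] : GrOp (CohB1.ProjSpace r R).Modules (r + 1) where
  obj a := Twist.twistProjSpace r R a
  x i a := mulVar r R i a
  comm i j a := mulVar_comm i j a

/-- The family `a ↦ φ^* O(a)`. -/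
noncomputable def gr (φ : X ⟶ CohB1.ProjSpace r R) : GrOp X.Modules (r + 1) :=
  (grP r R).map (Scheme.Modules.pullback φ)

theorem gr_x_bijective (φ : X ⟶ CohB1.ProjSpace r R) (k : Fin (r + 1)) (a : ℤ) (V : X.Opens)
    (hV : V ≤ φ ⁻¹ᵁ (frameProj r R).W k) : Function.Bijective (((gr φ).x k a).app V) := by
  have h1 : IsIso ((Scheme.Modules.restrictFunctor ((frameProj r R).W k).ι).map (mulVar r R k a)) :=
    isIso_restrict_of_app _ _ fun V hV => mulVar_app_bijective k a V hV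
  have h2 := Groth.Agent.CurvesC.PullIso.isIso_restrict_pullback φ (mulVar r R k a) ((frameProj r R).W k) h1
  have h3 : IsIso (((Scheme.Modules.restrictFunctor (φ ⁻¹ᵁ (frameProj r R).W k).ι).map
    ((Scheme.Modules.pullback φ).map (mulVar r R k a))).app ((φ ⁻¹ᵁ (frameProj r R).W k).ι ⁻¹ᵁ V)) := inferInstance
  have h4 : IsIso (((Scheme.Modules.pullback φ).map (mulVar r R k a)).app
    ((φ ⁻¹ᵁ (frameProj r R).W k).ι ''ᵁ ((φ ⁻¹ᵁ (frameProj r R).W k).ι ⁻¹ᵁ V))) := h3
  have h5 : (φ ⁻¹ᵁ (frameProj r R).W k).ι ''ᵁ ((φ ⁻¹ᵁ (frameProj r R).W k).ι ⁻¹ᵁ V) = V := by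
    rw [Scheme.Hom.image_preimage_eq_opensRange_inf, Scheme.Opens.opensRange_ι]
    exact inf_eq_right.2 hV
  rw [h5] at h4
  exact (ConcreteCategory.isIso_iff_bijective _).1 h4

/-- The frame of the family `φ^* O(a)` given by the coordinates. -/
noncomputable def framed (φ : X ⟶ CohB1.ProjSpace r R)
    (haff : ∀ k, IsAffineOpen (φ ⁻¹ᵁ (frameProj r R).W k)) : Framed (gr φ) where
  W k := φ ⁻¹ᵁ (frameProj r R).W k
  g j k := φ.app _ ((frameProj r R).g j k)
  cov := by
    rw [← Scheme.Hom.preimage_iSup, (frameProj r R).cov]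
    rfl
  basic j k := by
    rw [← Scheme.preimage_basicOpen, (frameProj r R).basic]
    rfl
  aff := haff
  bij k a V hV := gr_x_bijective φ k a V hV
  rel j k a V hV s := pull_rel φ (isInvertible_twistProjSpace r R a) (mulVar r R j a) (mulVar r R k a) _
    ((frameProj r R).g j k) (fun _ hV s => Groth.Agent.Sga67.CMReg.mulVar_rel j k a hV s) V hV s

theorem locInv (φ : X ⟶ CohB1.ProjSpace r R) : LocInv (gr φ) := by
  intro x
  have h : φ x ∈ ⨆ k, (frameProj r R).W k := by rw [(frameProj r R).cov]; trivial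
  obtain ⟨k, hk⟩ := Opens.mem_iSup.1 h
  exact ⟨φ ⁻¹ᵁ (frameProj r R).W k, k, hk, fun a => isIso_restrict_of_app _ _ fun V hV => gr_x_bijective φ k a V hV⟩

theorem isInvertible_gr (φ : X ⟶ CohB1.ProjSpace r R) (a : ℤ) : PicF.IsInvertible ((gr φ).obj a) :=
  Groth.Agent.Fdesc.LocGen.isInvertible_pullback φ (isInvertible_twistProjSpace r R a)

/-! ### Koszul dimension shifting -/

/-- The set of sums of images of the operators. -/
def Sums (Φ : X.Modules ⥤ AddCommGrpCat.{u}) {r : ℕ} (G : GrOp X.Modules r)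
    (a : ℤ) (u : Φ.obj (G.obj a)) : Prop :=
  ∀ (b : ℤ) (hb : b + 1 = a), ∃ s : Fin r → Φ.obj (G.obj b), (∑ i, Φ.map (G.x i b) (s i) : Φ.obj (G.obj (b + 1))) = hb ▸ u

theorem exists_sum_H0 {r : ℕ} (G : GrOp X.Modules r) (hG : LocInv G) (a : ℤ)
    (h : ∀ j : ℕ, 1 ≤ j → j < r → Subsingleton (Coh.HH X (G.obj (a - j)) j)) (t : (HHF X 0).obj (G.obj (a + 1))) :
    ∃ s : Fin r → (HHF X 0).obj (G.obj a), ∑ i, (HHF X 0).map (G.x i a) (s i) = t := by
  refine forall_H0 G hG (a + 1) (fun j h1 h2 => ?_) (Sums (HHF X 0) G) ?_ ?_ ?_ t a rfl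
  · have e : a + 1 - 1 - (j : ℤ) = a - j := by ring
    rw [e]
    exact h j h1 h2
  · rintro a s t hs ht b rfl
    obtain ⟨s', hs'⟩ := hs b rfl
    obtain ⟨t', ht'⟩ := ht b rfl
    refine ⟨s' + t', ?_⟩
    change _ = s + t
    change _ = s at hs'
    change _ = t at ht'
    rw [← hs', ← ht', ← Finset.sum_add_distrib]
    exact Finset.sum_congr rfl fun i _ => map_add _ _ _
  · rintro a b rfl
    refine ⟨0, ?_⟩
    change _ = 0
    exact Finset.sum_eq_zero fun i _ => map_zero _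
  · rintro i a t b hb
    obtain rfl : b = a := by omega
    refine ⟨Pi.single i t, ?_⟩
    change _ = (HHF X 0).map (G.x i b) t
    rw [Finset.sum_eq_single i]
    · rw [Pi.single_eq_same]
    · intro j _ hj
      rw [Pi.single_eq_of_ne hj]
      exact map_zero _
    · intro hi
      exact absurd (Finset.mem_univ i) hi

/-- If `H^j(G (a - j)) = 0` for `1 ≤ j < r`, every section of `G (a + 1)` is a sum of `x i (s i)`. -/
theorem exists_sum {r : ℕ} (G : GrOp X.Modules r) (hG : LocInv G) (a : ℤ)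
    (h : ∀ j : ℕ, 1 ≤ j → j < r → Subsingleton (Coh.HH X (G.obj (a - j)) j)) (t : Γ(G.obj (a + 1), ⊤)) :
    ∃ s : Fin r → Γ(G.obj a, ⊤), ∑ i, (G.x i a).app ⊤ (s i) = t := by
  obtain ⟨s, hs⟩ := exists_sum_H0 G hG a h ((Groth.Agent.CurvesB.HZero.equivAdd (G.obj (a + 1))).symm t)
  refine ⟨fun i => Groth.Agent.CurvesB.HZero.equivAdd (G.obj a) (s i), ?_⟩
  have h1 := congrArg (Groth.Agent.CurvesB.HZero.equivAdd (G.obj (a + 1))) hs
  rw [AddEquiv.apply_symm_apply] at h1
  rw [← h1]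
  have h2 := map_sum (Groth.Agent.CurvesB.HZero.equivAdd (G.obj (a + 1))) (fun i =>
    ((HHF X 0).map (G.x i a) (s i) : Coh.HH _ (G.obj (a + 1)) 0)) Finset.univ
  refine Eq.trans ?_ h2.symm
  refine Finset.sum_congr rfl fun i _ => ?_
  exact (Groth.Agent.CurvesB.HZero.equivAdd_map (G.x i a) (s i)).symm

end K817.PullGr
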