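import Groth.Agent.AbVar.K817.PullGr
import Groth.Agent.CurvesC.VeryAmple

/-!
# Embeddings by the sections of a module of a framed family

`G : GrOp X.Modules r` with frame `F`, `o` a global generator of `G 0`, `τ j = x_j^v o`.

* `eq_top`: if every section of `G (n + 1)`, `n ≥ v`, is a sum of `x_j s_j`, then `Γ(X, W i)` is generated as a ring by
  the quotients of the global sections of `G v` by `x_i^v`.
* `exists_closedImmersion`: in this case, for `X` proper over a field `k`, the module `G v` is very ample: the complete linear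
  system is a closed immersion in `P^N`, `N + 1 = dim H^0(X, G v)`.
-/

set_option autoImplicit false
universe u
open CategoryTheory CategoryTheory.Limits AlgebraicGeometry Opposite TopologicalSpace

namespace K817.RingGen

open Groth.Agent.Ega4dA.GenSec
open Groth.Agent.VarietyB.KoszulCone Groth.Agent.Sga67.FramedGr

variable {X : Scheme.{u}} {r : ℕ} {G : GrOp X.Modules r} (F : Framed G)

/-- Every section of `G (n+1)`, `n ≥ v`, is a sum `∑ x_j s_j`. -/
def Gen (G : GrOp X.Modules r) (v : ℕ) : Prop :=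
  ∀ n, v ≤ n → ∀ t : Γ(G.obj (idx 0 (n + 1)), ⊤), ∃ s : Fin r → Γ(G.obj (idx 0 n), ⊤),
    ∑ j, (G.x j (idx 0 n)).app ⊤ (s j) = t

theorem exists_smul (o : Γ(G.obj 0, ⊤)) (ho : Groth.Agent.Fdesc.LocGen.IsGen o) (i : Fin r) (n : ℕ)
    (V : X.Opens) (hV : V ≤ F.W i) :
    Function.Bijective (fun c : Γ(X, V) => c • ups0 G 0 i V n (res _ le_top o)) := by
  have h1 : Function.Bijective (fun c : Γ(X, V) => c • res (G.obj 0) (le_top : V ≤ ⊤) o) := ho V le_top
  have h2 := (ups0_bijective 0 F i V hV n).comp h1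
  convert h2 using 2 with c
  simp

theorem mem_of_res (o : Γ(G.obj 0, ⊤)) (ho : Groth.Agent.Fdesc.LocGen.IsGen o) (i : Fin r) (v : ℕ) (hv : 1 ≤ v)
    (hS : Gen G v) (C : Subring Γ(X, F.W i))
    (hC : ∀ (s : Γ(G.obj (idx 0 v), ⊤)) (c : Γ(X, F.W i)),
      res _ le_top s = c • ups0 G 0 i (F.W i) v (res _ le_top o) → c ∈ C)
    (n : ℕ) (hn : v ≤ n) : ∀ (u : Γ(G.obj (idx 0 n), ⊤)) (c : Γ(X, F.W i)),
      res _ le_top u = c • ups0 G 0 i (F.W i) n (res _ le_top o) → c ∈ C := by
  induction n, hn using Nat.le_induction with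
  | base => exact hC
  | succ n hn ih =>
    intro u c hc
    obtain ⟨s, hs⟩ := hS n hn u
    have h1 : ∀ j, ∃ c : Γ(X, F.W i), c • ups0 G 0 i (F.W i) n (res _ le_top o) = res _ le_top (s j) :=
      fun j => (exists_smul F o ho i n (F.W i) le_rfl).2 _
    choose cj hcj using h1
    have hg : ∀ j, F.g j i ∈ C := by
      intro j
      obtain ⟨w, rfl⟩ : ∃ w, v = w + 1 := ⟨v - 1, by omega⟩
      refine hC ((G.x j (idx 0 w)).app ⊤ (ups0 G 0 i ⊤ w o)) _ ?_
      refine (app_res' (G.x j (idx 0 w)) (le_top : F.W i ≤ ⊤) (ups0 G 0 i ⊤ w o)).symm.trans ?_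
      rw [res_ups0, F.rel j i _ _ le_rfl, resO_self]
      rfl
    have hsum : c = ∑ j, F.g j i * cj j := by
      apply (exists_smul F o ho i (n + 1) (F.W i) le_rfl).1
      change c • _ = (∑ j, F.g j i * cj j) • _
      rw [← hc, ← hs]
      have e1 : res _ (le_top : F.W i ≤ ⊤) (∑ j, (G.x j (idx 0 n)).app ⊤ (s j)) =
          ∑ j, res _ (le_top : F.W i ≤ ⊤) ((G.x j (idx 0 n)).app ⊤ (s j)) :=
        map_sum ((G.obj (idx 0 n + 1)).presheaf.map (homOfLE (le_top : F.W i ≤ ⊤)).op).hom _ _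
      refine e1.trans ?_
      rw [Finset.sum_smul]
      refine Finset.sum_congr rfl fun j _ => ?_
      rw [← app_res', ← hcj j, Scheme.Modules.Hom.app_smul, F.rel j i _ _ le_rfl, resO_self, smul_smul, mul_comm]
      rfl
    rw [hsum]
    exact Subring.sum_mem _ fun j _ => Subring.mul_mem _ (hg j) (ih (s j) (cj j) (hcj j).symm)

theorem eq_top (hG : Coh.IsQCoh (G.obj 0)) (o : Γ(G.obj 0, ⊤)) (ho : Groth.Agent.Fdesc.LocGen.IsGen o)
    (i : Fin r) (v : ℕ) (hv : 1 ≤ v) (hS : Gen G v) (U : X.Opens) (hU : U = F.W i) (C : Subring Γ(X, U))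
    (hC : ∀ (s : Γ(G.obj (idx 0 v), ⊤)) (c : Γ(X, U)),
      res _ le_top s = c • ups0 G 0 i U v (res _ le_top o) → c ∈ C) (c : Γ(X, U)) : c ∈ C := by
  subst hU
  obtain ⟨n, u, hu⟩ := exists_lift 0 F hG i (c • res _ le_top o)
  refine mem_of_res F o ho i v hv hS C hC (n + v) (by omega) (ups G 0 i ⊤ n v u) c ?_
  rw [res_ups, hu, map_smul, map_smul, ups_ups0]

/-- The sections `x_j^v`. -/
noncomputable def tau (o : Γ(G.obj 0, ⊤)) (v : ℕ) (j : Fin r) : Γ(G.obj (idx 0 v), ⊤) := ups0 G 0 j ⊤ v o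

theorem isGen_tau (o : Γ(G.obj 0, ⊤)) (ho : Groth.Agent.Fdesc.LocGen.IsGen o) (v : ℕ) (j : Fin r) :
    Groth.Agent.CurvesC.Gen.IsGen (G.obj (idx 0 v)) (F.W j) (res _ le_top (tau o v j)) := by
  intro V hV
  have h := exists_smul F o ho j v V hV
  convert h using 3 with c
  have h2 : (G.obj (idx 0 v)).presheaf.map (homOfLE hV).op (res _ le_top (tau o v j)) =
    res _ hV (res _ le_top (tau o v j)) := rfl
  rw [h2, res_res, tau, res_ups0]

open Groth.Agent.CurvesC.GenPt Groth.Agent.CurvesC.Gen in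
theorem loc_tau (o : Γ(G.obj 0, ⊤)) (ho : Groth.Agent.Fdesc.LocGen.IsGen o) (v : ℕ) (hv : 1 ≤ v) (j : Fin r) :
    loc (tau o v j) = F.W j := by
  apply le_antisymm
  · intro x hx
    obtain ⟨k, hk⟩ := Opens.mem_iSup.mp (F.cov.ge (Set.mem_univ x))
    have h1 := isGen_tau F o ho v k
    have h2 : F.g j k ^ v • res _ le_top (tau o v k) = res _ (le_top : F.W k ≤ ⊤) (tau o v j) := by
      rw [tau, tau, res_ups0, res_ups0, ups0_rel 0 F j k _ le_rfl, resO_self]
    rw [mem_loc_iff h1 (tau o v j) h2 hk] at hx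
    have h3 : x ∈ X.basicOpen (F.g j k ^ v) := (Scheme.mem_basicOpen X _ x hk).2 hx
    have h4 : x ∈ X.basicOpen (F.g j k) := by
      rwa [Scheme.basicOpen_pow X (F.g j k) hv] at h3
    rw [F.basic] at h4
    exact h4.1
  · rw [le_genLocus_iff, sec_ofSec]
    exact isGen_tau F o ho v j

section

variable (k : Type u) [Field k] [X.Over (Spec (CommRingCat.of k))] [IsProper (X ↘ Spec (CommRingCat.of k))]

open Groth.Agent.CurvesC Groth.Agent.CurvesC.GenPt Groth.Agent.CurvesC.Gen Groth.Agent.CurvesB.HZero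
  Groth.Agent.CurvesC.ProjMap

/-- The elements of `H^0` which do not generate at `x`. -/
noncomputable def nonGenK {M : X.Modules} (hM : PicF.IsInvertible M) (x : X) : Submodule k (Coh.HH X M 0) where
  carrier := {v | x ∉ loc (equivAdd M v)}
  zero_mem' := by
    have h := Submodule.zero_mem (nonGen hM x)
    change equivAdd M 0 ∈ nonGen hM x
    rw [map_zero]
    exact h
  add_mem' := by
    intro a b ha hb
    change equivAdd M (a + b) ∈ nonGen hM x
    rw [map_add]
    exact Submodule.add_mem (nonGen hM x) ha hb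
  smul_mem' := by
    intro c a ha
    change equivAdd M (c • a) ∈ nonGen hM x
    rw [equivAdd_smul_over (A := k)]
    exact Submodule.smul_mem (nonGen hM x) _ ha

include F in
/-- If the sections of `G (n + 1)`, `n ≥ v`, are sums of `x_j s_j`, then `G v` is very ample, by its complete linear
system. -/
theorem exists_closedImmersion [Nonempty X] (hG : Coh.IsQCoh (G.obj 0)) (o : Γ(G.obj 0, ⊤))
    (ho : Groth.Agent.Fdesc.LocGen.IsGen o) (v : ℕ) (hv : 1 ≤ v) (hS : Gen G v)
    (hM : PicF.IsInvertible (G.obj (idx 0 v))) (hfin : Module.Finite k (Coh.HH X (G.obj (idx 0 v)) 0)) :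
    ∃ (N : ℕ) (f : X ⟶ CohB1.ProjSpace N k), IsClosedImmersion f ∧
      f ≫ CohB1.ProjSpace.toSpec N k = X ↘ Spec (CommRingCat.of k) ∧
      Nonempty ((Scheme.Modules.pullback f).obj (Twist.twistProjSpace N k 1) ≅ G.obj (idx 0 v)) ∧
      N + 1 = Module.finrank k (Coh.HH X (G.obj (idx 0 v)) 0) := by
  classical
  set M := G.obj (idx 0 v) with hMdef
  let S : Set (Coh.HH X M 0) := Set.range fun j => (equivAdd M).symm (tau o v j)
  obtain ⟨T, hTS, hspan, hli0⟩ := exists_linearIndependent k S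
  have hli : LinearIndepOn k id T := hli0
  let b0 := Module.Basis.extend hli
  have hTb : ∀ t ∈ T, ∃ i, b0 i = t := by
    intro t ht
    refine ⟨⟨t, hli.subset_extend (Set.subset_univ T) ht⟩, ?_⟩
    exact Module.Basis.extend_apply_self hli _
  have hτT : ∀ x : X, ∃ t ∈ T, x ∈ loc (equivAdd M t) := by
    intro x
    by_contra hx
    push Not at hx
    have h1 : Submodule.span k T ≤ nonGenK k hM x := Submodule.span_le.2 fun t ht => hx t ht
    obtain ⟨j, hj⟩ := Opens.mem_iSup.mp (F.cov.ge (Set.mem_univ x))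
    have h2 : (equivAdd M).symm (tau o v j) ∈ nonGenK k hM x := by
      apply h1
      rw [hspan]
      exact Submodule.subset_span ⟨j, rfl⟩
    apply h2
    rw [AddEquiv.apply_symm_apply, loc_tau F o ho v hv j]
    exact hj
  -- the dimension is positive
  obtain ⟨x₀⟩ := (inferInstance : Nonempty X)
  have hpos : 0 < Module.finrank k (Coh.HH X M 0) := by
    obtain ⟨t, ht, -⟩ := hτT x₀
    obtain ⟨i, rfl⟩ := hTb t ht
    have : Nontrivial (Coh.HH X M 0) := ⟨⟨b0 i, 0, b0.ne_zero i⟩⟩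
    exact Module.finrank_pos
  obtain ⟨N, hN⟩ : ∃ N, Module.finrank k (Coh.HH X M 0) = N + 1 := ⟨_, (Nat.succ_pred_eq_of_pos hpos).symm⟩
  have : Fintype (hli.extend (Set.subset_univ T)) := FiniteDimensional.fintypeBasisIndex b0
  have hcard : Fintype.card (hli.extend (Set.subset_univ T)) = N + 1 := by
    rw [← hN, Module.finrank_eq_card_basis b0]
  let b := b0.reindex (Fintype.equivFinOfCardEq hcard)
  have hTb' : ∀ t ∈ T, ∃ i, b i = t := by
    intro t ht
    obtain ⟨i, hi⟩ := hTb t ht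
    refine ⟨Fintype.equivFinOfCardEq hcard i, ?_⟩
    rw [← hi]
    simp [b]
  let σ : Fin (N + 1) → Γ(M, ⊤) := fun i => equivAdd M (b i)
  let s : Fin (N + 1) → (Coh.structureModule X ⟶ M) := fun i => ofSec (σ i)
  have hspan' : ∀ r : Γ(M, ⊤), ∃ c : Fin (N + 1) → k, r = ∑ j, gl k X (c j) • σ j := by
    intro r
    refine ⟨fun j => b.repr ((equivAdd M).symm r) j, ?_⟩
    have h := congrArg (equivAdd M) (b.sum_repr ((equivAdd M).symm r))
    rw [AddEquiv.apply_symm_apply, map_sum] at h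
    refine h.symm.trans ?_
    apply Finset.sum_congr rfl
    intro j _
    exact equivAdd_smul_over (A := k) M _ _
  let I : Set (Fin (N + 1)) := {i | b i ∈ T}
  have hsI : ⨆ i : I, CohB1.genLocus M (s i) = ⊤ := by
    rw [eq_top_iff]
    intro x _
    obtain ⟨t, ht, hx⟩ := hτT x
    obtain ⟨i, rfl⟩ := hTb' t ht
    exact Opens.mem_iSup.2 ⟨⟨i, ht⟩, hx⟩
  have hs : ⨆ i, CohB1.genLocus M (s i) = ⊤ := by
    rw [eq_top_iff, ← hsI]
    exact iSup_le fun i => le_iSup (fun i => CohB1.genLocus M (s i)) i.1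
  have hIτ : ∀ i ∈ I, ∃ j, σ i = tau o v j := by
    intro i hi
    obtain ⟨j, hj⟩ := hTS hi
    refine ⟨j, ?_⟩
    change equivAdd M (b i) = _
    rw [← hj, AddEquiv.apply_symm_apply]
  obtain ⟨φ, hφ, hφg, -, -, e, -⟩ := exists_morphism (X ↘ Spec (CommRingCat.of k)) M s hs
  refine ⟨N, φ, ?_, hφg, ⟨e⟩, hN.symm⟩
  refine ProjClosed.isClosedImmersion_of_isProper hφ I hsI ?_ ?_
  · intro i hi
    obtain ⟨j, hj⟩ := hIτ i hi
    change IsAffineOpen (loc (σ i))
    rw [hj, loc_tau F o ho v hv j]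
    exact F.aff j
  · intro i hi a
    obtain ⟨j, hj⟩ := hIτ i hi
    have hU : CohB1.genLocus M (s i) = F.W j := by
      change loc (σ i) = _
      rw [hj]
      exact loc_tau F o ho v hv j
    have hmem := eq_top F hG o ho j v hv hS (CohB1.genLocus M (s i)) hU
      (locHom (X ↘ Spec (CommRingCat.of k)) M s i).range ?_ a
    · exact hmem
    · intro t c hc
      obtain ⟨d, hd⟩ := hspan' t
      refine ⟨∑ j, MvPolynomial.C (d j) * MvPolynomial.X j, ?_⟩
      have hgen : Groth.Agent.CurvesC.Gen.IsGen M (CohB1.genLocus M (s i)) (sec (s i) _) := isGen_genLocus (s i)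
      apply hgen.injective
      have h1 : sec (s i) (CohB1.genLocus M (s i)) =
          ups0 G 0 j (CohB1.genLocus M (s i)) v (res _ le_top o) := by
        rw [← res_ups0]
        refine (sec_ofSec (σ i) _).trans ?_
        rw [hj]
        rfl
      rw [map_sum, Finset.sum_smul]
      refine Eq.trans ?_ ((congrArg (fun z => c • z) h1).trans hc.symm).symm
      rw [hd]
      refine Eq.trans ?_ (map_sum (M.presheaf.map (homOfLE (le_top : CohB1.genLocus M (s i) ≤ ⊤)).op).hom _ _).symm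
      apply Finset.sum_congr rfl
      intro l _
      rw [map_mul, locHom_C, locHom_X, mul_smul, rat_smul, VeryAmple.struct_eq]
      refine Eq.trans ?_ (Groth.Agent.CurvesC.Gen.map_smul_section M _ _ _).symm
      rw [← sec_ofSec]

end

end K817.RingGen
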