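import Groth.Agent.AbVar.K817.RingGen
import Groth.Agent.Mor.K385.GenLocusAffine
import Groth.Agent.Ega1.GlobGenPt
import Groth.Agent.Fga.EulerLEAdd
import Groth.Agent.VarietyA.CurveFin
import Groth.Agent.CurvesA.HHMap
import Groth.Prelude.Def_Curv2
import Mathlib.AlgebraicGeometry.Geometrically.Integral

/-!
# Powers of an ample globally generated module which are very ample by a regularity argument

* `exists_sections`: a globally generated invertible module on a quasi-compact scheme is generated by finitely many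
  global sections.
* `exists_closedImmersion`: `X` proper over a field `k` of dimension `≤ g`, `L` ample and globally generated, `g ≤ v`,
  `1 ≤ v`, with `H^j(X, L^(n - j)) = 0` for `n ≥ v` and `1 ≤ j ≤ g`: the complete linear system of `L^v` is a closed
  immersion of `X` in `P^N`, `N + 1 = dim H^0(X, L^v)`.
* `veryAmple`: in particular, if `H^i(X, L^j) = 0` for all `i, j > 0`, then this applies to `L^(g + 1)`.
-/

set_option autoImplicit false
universe u
open CategoryTheory CategoryTheory.Limits AlgebraicGeometry Opposite TopologicalSpace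

namespace K817.VeryAmple

open Groth.Agent.Ega3B.ProjFrame Groth.Agent.Sga67.FramedGr K817.PullGr K817.RingGen

/-- Finitely many sections generate. -/
theorem exists_sections {X : Scheme.{u}} [CompactSpace X] [Nonempty X] {L : X.Modules} (hL : PicF.IsInvertible L)
    (hg : Curv2.IsGloballyGenerated L) :
    ∃ (r : ℕ) (s : Fin (r + 1) → (Coh.structureModule X ⟶ L)), ⨆ i, CohB1.genLocus L (s i) = ⊤ := by
  choose s hs using fun x : X => Groth.Agent.Ega1.GlobGenPt.exists_mem_genLocus hL hg x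
  obtain ⟨t, ht⟩ := isCompact_univ.elim_finite_subcover (fun x : X => (CohB1.genLocus L (s x) : Set X))
    (fun x => (CohB1.genLocus L (s x)).2) (fun x _ => Set.mem_iUnion.2 ⟨x, hs x⟩)
  have hne : t.Nonempty := by
    rw [Finset.nonempty_iff_ne_empty]
    rintro rfl
    obtain ⟨x⟩ := (inferInstance : Nonempty X)
    have h := ht (Set.mem_univ x)
    simp at h
  obtain ⟨r, hr⟩ : ∃ r, t.card = r + 1 := ⟨t.card - 1, by have := hne.card_pos; omega⟩
  let e : t ≃ Fin (r + 1) := t.equivFinOfCardEq hr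
  refine ⟨r, fun i => s (e.symm i).1, ?_⟩
  rw [eq_top_iff]
  intro x _
  have hx := ht (Set.mem_univ x)
  simp only [Set.mem_iUnion] at hx
  obtain ⟨y, hy, hxy⟩ := hx
  refine Opens.mem_iSup.2 ⟨e ⟨y, hy⟩, ?_⟩
  change x ∈ CohB1.genLocus L (s (e.symm (e ⟨y, hy⟩)).1)
  rw [Equiv.symm_apply_apply]
  exact hxy

variable {X : Scheme.{u}}

/-- `φ^* O(n) ≅ (φ^* O(1))^n`. -/
theorem nonempty_gr_iso {r : ℕ} {R : Type u} [CommRing R] (φ : X ⟶ CohB1.ProjSpace r R) {L : X.Modules}
    (e : (Scheme.Modules.pullback φ).obj (Twist.twistProjSpace r R 1) ≅ L) (n : ℕ) :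
    Nonempty ((gr φ).obj (n : ℤ) ≅ CohB1.tensorPow L n) := by
  obtain ⟨e1⟩ := nonempty_twistProjSpace_iso r R n
  obtain ⟨e2⟩ := Groth.Agent.Ega3B.PullTensor.nonempty_pullPowIso φ (isInvertible_twistProjSpace r R 1) n
  exact ⟨(Scheme.Modules.pullback φ).mapIso e1 ≪≫ e2 ≪≫ Groth.Agent.Ega2.TensPow.powIso e n⟩

theorem isNoetherian (k : Type u) [Field k] (X : Scheme.{u}) [X.Over (Spec (CommRingCat.of k))]
    [IsProper (X ↘ (Spec (CommRingCat.of k)))] : IsNoetherian X := by
  have h1 : IsLocallyNoetherian X := LocallyOfFiniteType.isLocallyNoetherian (X ↘ Spec (CommRingCat.of k))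
  have h2 : CompactSpace X := QuasiCompact.compactSpace_of_compactSpace (X ↘ Spec (CommRingCat.of k))
  exact {}

theorem exists_closedImmersion (k : Type u) [Field k] (X : Scheme.{u}) [X.Over (Spec (CommRingCat.of k))]
    [IsProper (X ↘ (Spec (CommRingCat.of k)))] [Nonempty X] (g : ℕ) (hg : topologicalKrullDim X ≤ g)
    (L : X.Modules) (hA : CohB1.IsAmple L) (hgg : Curv2.IsGloballyGenerated L) (v : ℕ) (hv1 : 1 ≤ v) (hgv : g ≤ v)
    (hv : ∀ n, v ≤ n → ∀ j, 1 ≤ j → j ≤ g → Subsingleton (Coh.HH X (CohB1.tensorPow L (n - j)) j)) :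
    ∃ (N : ℕ) (f : X ⟶ CohB1.ProjSpace N k), IsClosedImmersion f ∧
      f ≫ CohB1.ProjSpace.toSpec N k = X ↘ Spec (CommRingCat.of k) ∧
      Nonempty ((Scheme.Modules.pullback f).obj (Twist.twistProjSpace N k 1) ≅ CohB1.tensorPow L v) ∧
      N + 1 = Module.finrank k (Coh.HH X (CohB1.tensorPow L v) 0) := by
  have hN := isNoetherian k X
  have hL := hA.1
  obtain ⟨r, s, hs⟩ := exists_sections hL hgg
  obtain ⟨φ, -, -, hpre, -, e, -⟩ := Groth.Agent.CurvesC.ProjMap.exists_morphism (X ↘ Spec (CommRingCat.of k)) L s hs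
  have haff : ∀ i, IsAffineOpen (φ ⁻¹ᵁ (frameProj r k).W i) := by
    intro i
    have h1 : φ ⁻¹ᵁ (frameProj r k).W i = CohB1.genLocus L (s i) := hpre i
    rw [h1]
    exact Groth.Agent.K385.GenLocusAffine.isAffineOpen_genLocus (X ↘ Spec (CommRingCat.of k)) hA (s i)
  obtain ⟨e0⟩ := nonempty_gr_iso φ e 0
  have hiso : ∀ n : ℕ, Nonempty ((gr φ).obj (idx 0 n) ≅ CohB1.tensorPow L n) := by
    intro n
    have h := nonempty_gr_iso φ e n
    have h2 : idx 0 n = (n : ℤ) := by rw [idx_eq, zero_add]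
    rw [h2]
    exact h
  have hS : Gen (gr φ) v := by
    intro n hn t
    refine exists_sum (gr φ) (locInv φ) (idx 0 n) (fun j h1 _ => ?_) t
    by_cases hj : j ≤ g
    · have h2 : idx 0 n - (j : ℤ) = ((n - j : ℕ) : ℤ) := by rw [idx_eq]; omega
      rw [h2]
      obtain ⟨e3⟩ := nonempty_gr_iso φ e (n - j)
      exact Groth.Agent.Fga.HShift.subsingleton_of_iso e3.symm j (hv n hn j h1 hj)
    · exact Groth.Agent.Fga.EulerLEAdd.subsingleton_HH X g hg _ j (by omega)
  have hinv : ∀ a : ℤ, PicF.IsInvertible ((gr φ).obj a) := isInvertible_gr φ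
  obtain ⟨N, f, hf, hfp, ⟨ef⟩, hfN⟩ := K817.RingGen.exists_closedImmersion (framed φ haff) k
    (Groth.Agent.VarietyA.CurveFin.isCoh_of_isInvertible (hinv 0)).1
    (e0.inv.app ⊤ (Groth.Agent.Fdesc.LocGen.one ⊤)) ((Groth.Agent.Fdesc.LocGen.isGen_one ⊤).app e0.inv) v hv1 hS
    (hinv _) (Groth.Agent.VarietyA.CurveFin.finite_HH k X (hinv _) 0)
  obtain ⟨ev⟩ := hiso v
  refine ⟨N, f, hf, hfp, ⟨ef ≪≫ ev⟩, hfN.trans ?_⟩
  exact (Groth.Agent.CurvesA.HHMap.equivOver k ev 0).finrank_eq

/-- `X` proper over `k` of dimension `g`, `L` ample, globally generated with `H^i(X, L^j) = 0` for `i, j > 0`. Then the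
complete linear system of `L^(g + 1)` is a closed immersion in `P^N`, `N + 1 = χ(X, L^(g + 1))`. -/
theorem veryAmple (k : Type u) [Field k] (X : Over (Spec (CommRingCat.of k))) [IsProper X.hom]
    [GeometricallyIntegral X.hom] (g : ℕ) (hg : topologicalKrullDim X.left = g) (L : X.left.Modules)
    (_ : PicF.IsInvertible L) (hA : CohB1.IsAmple L) (hgg : Curv2.IsGloballyGenerated L)
    (hv : ∀ i j : ℕ, 0 < i → 0 < j → Subsingleton (Coh.HH X.left (CohB1.tensorPow L j) i)) :
    ∃ (N : ℕ) (f : X.left ⟶ CohB1.ProjSpace N k), IsClosedImmersion f ∧ f ≫ CohB1.ProjSpace.toSpec N k = X.hom ∧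
      Nonempty ((Scheme.Modules.pullback f).obj (Twist.twistProjSpace N k 1) ≅ CohB1.tensorPow L (g + 1)) ∧
      (N : ℤ) + 1 = @Curv2.euler k _ X.left ⟨X.hom⟩ (CohB1.tensorPow L (g + 1)) := by
  let _ : X.left.Over (Spec (CommRingCat.of k)) := ⟨X.hom⟩
  have hp : IsProper (X.left ↘ Spec (CommRingCat.of k)) := (inferInstance : IsProper X.hom)
  have hne : Nonempty X.left := by
    by_contra h
    rw [not_nonempty_iff] at h
    have h2 : IsEmpty (IrreducibleCloseds X.left) := ⟨fun Z => by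
      obtain ⟨x, -⟩ := Z.2.nonempty
      exact h.elim x⟩
    have h3 : topologicalKrullDim X.left = ⊥ := Order.krullDim_eq_bot
    rw [h3] at hg
    exact absurd hg (by simp)
  obtain ⟨N, f, h1, h2, h3, h4⟩ := exists_closedImmersion k X.left g hg.le L hA hgg (g + 1) (by omega) (by omega)
    (fun n hn j h1 h2 => hv j (n - j) (by omega) (by omega))
  refine ⟨N, f, h1, h2, h3, ?_⟩
  rw [Groth.Agent.VarietyA.EulerAdd.euler_eq_sum k _ 1 (fun i hi => hv i (g + 1) (by omega) (by omega))]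
  rw [Finset.sum_range_one, pow_zero, one_mul, ← h4]
  push_cast
  ring

end K817.VeryAmple
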